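import Cfsg.Agent.Lib.O8Two.Stab

/-!
# The Schur multiplier of the eight-dimensional orthogonal group over two elements
-/

set_option autoImplicit false
set_option maxRecDepth 8000

namespace Cfsg.Lib.O8Two

open MulAction Cfsg.Lib.Concrete Matrix

/-- A point of the certificates. -/
def pt (x : ℕ) : Gam ⧸ UGrp := (cWord (tWord x) : Gam)

/-- The check of one edge. -/
def edgeOk (e : ℕ) (u : List ℕ) : Bool :=
  let l := e / 240 :: tWord (e % 240)
  let r := tWord (certTwo.tab (e / 240) (e % 240))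
  Nat.beq (tImg l 0) (tImg r (uImgB u 0)) && baseV.all fun b => Nat.beq (oImg l b) (oImg r (uImgA u b))

theorem edge_table : (List.range 480).all (fun e => edgeOk e (edgeWord.getD e [])) = true := by decide +kernel

theorem tab_same : ∀ i : Fin 2, ∀ x : Fin 240,
    certThree.tab i x = certTwo.tab i x ∧ certFive.tab i x = certTwo.tab i x := by decide +kernel

theorem pt_act (i : ℕ) (hi : i < 2) (x : ℕ) (hx : x < 240) : cGen i • pt x = pt (certTwo.tab i x) := by
  have h := edge_table
  simp only [List.all_eq_true, List.mem_range] at h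
  have h' := h (240 * i + x) (by omega)
  simp only [edgeOk, Bool.and_eq_true, List.all_eq_true, Nat.beq_eq] at h'
  rw [show (240 * i + x) / 240 = i by omega, show (240 * i + x) % 240 = x by omega] at h'
  obtain ⟨h0, hb⟩ := h'
  set u := wordProd (fun k => uGen (k % 2)) (edgeWord.getD (240 * i + x) []) with hu
  have e : cWord (i :: tWord x) = cWord (tWord (certTwo.tab i x)) * u := by
    refine ext_nine (fun b hb' => Fin.ext ?_) (Fin.ext ?_)
    · rw [map_mul, Equiv.Perm.mul_apply, cWord_one, cWord_one, hu, uWord_one]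
      exact hb b hb'
    · rw [map_mul, Equiv.Perm.mul_apply, cWord_two, cWord_two, hu, uWord_two]
      exact h0
  show ((cGen i * cWord (tWord x) : Gam) : Gam ⧸ UGrp) = _
  rw [show cGen i * cWord (tWord x) = cWord (i :: tWord x) by simp [cWord, wordProd], e]
  exact QuotientGroup.mk_mul_of_mem _ (uWord_mem _)

theorem pt_zero : pt 0 = ((1 : Gam) : Gam ⧸ UGrp) := by
  have : tWord 0 = [] := by decide +kernel
  rw [pt, this]
  simp [cWord, wordProd]

theorem stab_pt : stabilizer Gam (pt 0) = UGrp := by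
  rw [pt_zero]
  exact MulAction.stabilizer_quotient UGrp

theorem pts_inj : ∀ x : Fin 240, ((List.range 240).map fun a => tget 8 certPts a).idxOf (tget 8 certPts x) = x := by
  decide +kernel

theorem pt_inj {x y : ℕ} (hx : x < 240) (hy : y < 240) (h : pt x = pt y) : x = y := by
  have hm : (cWord (tWord x))⁻¹ * cWord (tWord y) ∈ UGrp := QuotientGroup.eq.1 h
  have h1 := fix_of_mem hm
  rw [map_mul, map_inv, Equiv.Perm.mul_apply, Equiv.Perm.inv_def, Equiv.symm_apply_eq] at h1
  have h2 := congrArg Fin.val h1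
  rw [cWord_one, cWord_one] at h2
  have e1 := tree_pts ⟨x, hx⟩
  have e2 := tree_pts ⟨y, hy⟩
  simp only [Fin.coe_ofNat_eq_mod, Nat.zero_mod] at h2
  rw [e1, e2] at h2
  have := pts_inj ⟨x, hx⟩
  simp only at this h2
  rw [← h2, pts_inj ⟨y, hy⟩] at this
  exact this.symm

theorem pt_sep (y : ℕ) (hy : y < 240) (h : pt y = pt 0) : y = 0 := pt_inj hy (by norm_num) h

theorem certTwo_check : certTwo.check (xorVec certTwo.m) = true := by decide +kernel

instance fact_three : Fact (1 < 3) := ⟨by norm_num⟩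

instance fact_five : Fact (1 < 5) := ⟨by norm_num⟩

theorem certThree_check : certThree.check (digitVec 3 certThree.m) = true := by decide +kernel

theorem certFive_check : certFive.check (digitVec 5 certFive.m) = true := by decide +kernel

theorem card_Gam : Nat.card Gam = 696729600 := by
  have hsh := StemPerm.shape_of_check _ certTwo_check
  have ho := StemPerm.orbit_eq certTwo hsh pt cGen cGen_closure pt_act
  have hb : Function.Bijective fun a : Fin 240 => pt a := by
    refine ⟨fun a b h => Fin.ext (pt_inj a.isLt b.isLt h), fun w => ?_⟩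
    have : w ∈ orbit Gam (pt 0) := by rw [MulAction.orbit_eq_univ]; trivial
    rw [ho] at this
    obtain ⟨x, hx, rfl⟩ := this
    exact ⟨⟨x, hx⟩, rfl⟩
  have h2 := UGrp.card_mul_index
  rw [card_UGrp, Subgroup.index_eq_card, ← Nat.card_congr (Equiv.ofBijective _ hb), Nat.card_fin] at h2
  exact h2.symm

theorem rels_nine : (certTwo.rels ++ certThree.rels ++ certFive.rels).all (fun W =>
    Nat.beq (tImg W 0) 0 && baseV.all fun b => Nat.beq (oImg W b) b) = true := by decide +kernel

theorem rels_ok {W : List ℕ} (hW : W ∈ certTwo.rels ++ certThree.rels ++ certFive.rels) :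
    wordProd cGen W = 1 := by
  have h := rels_nine
  simp only [List.all_eq_true, Bool.and_eq_true, Nat.beq_eq] at h
  obtain ⟨h0, hb⟩ := h W hW
  refine ext_nine (fun b hb' => Fin.ext ?_) (Fin.ext ?_)
  · show (actA (cWord W) b : ℕ) = _
    rw [cWord_one, map_one]
    exact hb b hb'
  · show (actB (cWord W) 0 : ℕ) = _
    rw [cWord_two, map_one]
    exact h0

theorem noStem_Gam (p : ℕ) (hp : p.Prime) : NoStem p Gam := by
  haveI := Fact.mk hp
  obtain ⟨e⟩ := iso_Cov
  have hlift := liftsAt_of_noStem hp perfect_UGrp (NoStem.of_equiv e.symm (Cfsg.Lib.SpSix.noStem_Cov p hp))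
  by_cases h2 : p = 2
  · subst h2
    refine noStem_of_cert certTwo (xorVec _) certTwo_check pt cGen cGen_closure pt_act pt_sep
      (fun W hW => rels_ok (List.mem_append_left _ (List.mem_append_left _ hW))) ?_
    rw [stab_pt]
    exact hlift
  by_cases h3 : p = 3
  · subst h3
    refine noStem_of_cert certThree (digitVec 3 _) certThree_check pt cGen cGen_closure (fun i hi x hx => ?_)
      pt_sep (fun W hW => rels_ok (List.mem_append_left _ (List.mem_append_right _ hW))) ?_
    · rw [(tab_same ⟨i, hi⟩ ⟨x, hx⟩).1]; exact pt_act i hi x hx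
    · rw [stab_pt]; exact hlift
  by_cases h5 : p = 5
  · subst h5
    refine noStem_of_cert certFive (digitVec 5 _) certFive_check pt cGen cGen_closure (fun i hi x hx => ?_)
      pt_sep (fun W hW => rels_ok (List.mem_append_right _ hW)) ?_
    · rw [(tab_same ⟨i, hi⟩ ⟨x, hx⟩).2]; exact pt_act i hi x hx
    · rw [stab_pt]; exact hlift
  refine noStem_of_not_sq_dvd hp fun hd => ?_
  rw [card_Gam] at hd
  have h1 : p ∣ 696729600 := (dvd_pow_self p two_ne_zero).trans hd
  rw [show (696729600 : ℕ) = 2 ^ 14 * (3 ^ 5 * (5 ^ 2 * 7)) by norm_num] at h1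
  rcases hp.dvd_mul.1 h1 with h | h
  · exact h2 ((Nat.prime_dvd_prime_iff_eq hp Nat.prime_two).1 (hp.dvd_of_dvd_pow h))
  rcases hp.dvd_mul.1 h with h | h
  · exact h3 ((Nat.prime_dvd_prime_iff_eq hp Nat.prime_three).1 (hp.dvd_of_dvd_pow h))
  rcases hp.dvd_mul.1 h with h | h
  · exact h5 ((Nat.prime_dvd_prime_iff_eq hp (by norm_num)).1 (hp.dvd_of_dvd_pow h))
  · obtain rfl := (Nat.prime_dvd_prime_iff_eq hp (by norm_num)).1 h
    norm_num at hd

theorem card_proj_ker : Nat.card proj.ker = 4 := by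
  have h : (proj.ker : Set Gam) = {1, tauA, tauB, tauA * tauB} := Set.ext fun g =>
    ⟨fun hg => proj_ker_cases hg, fun hg => by
      rcases hg with rfl | rfl | rfl | rfl
      exacts [one_mem _, proj_tauA, proj_tauB, mul_mem proj_tauA proj_tauB]⟩
  have h3 : tauA * tauB ≠ 1 := fun h' => flip_ne 0 (by
    have := congrArg (fun g => actA g 0) h'
    simpa [tau_values.1, tau_values.2.1] using this)
  have h4 : tauA * tauB ≠ tauA := fun h' => tauB_ne_one (mul_eq_left.1 h')
  have h5 : tauA * tauB ≠ tauB := fun h' => tauA_ne_one (mul_eq_right.1 h')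
  rw [← SetLike.coe_sort_coe, Nat.card_coe_set_eq, h,
    Set.ncard_insert_of_notMem (by simp [Ne.symm tauA_ne_one, Ne.symm tauB_ne_one, Ne.symm h3]),
    Set.ncard_insert_of_notMem (by simp [tauA_ne_tauB, Ne.symm h4]),
    Set.ncard_pair (Ne.symm h5)]

theorem sq_of_vals {g : Gam} (hA : ∀ x, actA g (actA g x) = x) (hB : actB g (actB g 0) = 0) : g * g = 1 := by
  refine ext_nine (fun b _ => ?_) ?_
  · rw [map_mul, map_one, Equiv.Perm.mul_apply, hA, Equiv.Perm.one_apply]
  · rw [map_mul, map_one, Equiv.Perm.mul_apply, hB, Equiv.Perm.one_apply]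

theorem ker_sq {g : Gam} (hg : g ∈ proj.ker) : g * g = 1 := by
  rcases proj_ker_cases hg with rfl | rfl | rfl | rfl
  · exact one_mul 1
  · exact sq_of_vals (fun x => by rw [tau_values.1, tau_values.1, flip_flip]) (by rw [tau_two.1, tau_two.1])
  · exact sq_of_vals (fun x => by rw [tau_values.2.1, tau_values.2.1]) (by rw [tau_two.2, tau_two.2, flip_flip])
  · exact sq_of_vals (fun x => by rw [map_mul, Equiv.Perm.mul_apply, Equiv.Perm.mul_apply, tau_values.2.1, tau_values.1, tau_values.2.1, tau_values.1, flip_flip])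
      (by rw [map_mul, Equiv.Perm.mul_apply, Equiv.Perm.mul_apply, tau_two.2, tau_two.1, tau_two.2, tau_two.1, flip_flip])

theorem multiplier : Cfsg.HasSchurMultiplier (Cfsg.POmega (ZMod 2) QQ) (Multiplicative (ZMod 2 × ZMod 2)) := by
  have hk : Nat.card toPOm.ker = 4 := by rw [toPOm_ker, card_proj_ker]
  have hsq : ∀ g : toPOm.ker, g ^ 2 = 1 := fun g => Subtype.ext (by
    show (g : Gam) ^ 2 = 1
    rw [pow_two]
    exact ker_sq (toPOm_ker ▸ g.2))
  haveI : Nontrivial toPOm.ker := Finite.one_lt_card_iff_nontrivial.1 (by omega)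
  haveI : IsKleinFour toPOm.ker := ⟨hk, (Monoid.exponent_eq_prime_iff Nat.prime_two).2 fun g hg =>
    orderOf_eq_prime (hsq g) hg⟩
  obtain ⟨e⟩ := IsKleinFour.nonempty_mulEquiv (G₁ := toPOm.ker) (G₂ := Multiplicative (ZMod 2 × ZMod 2))
  exact Schur.hasSchurMultiplier_of_cover perfect_POmega toPOm_stem noStem_Gam e

universe u

/-- The orthogonal group along a ring isomorphism. -/
theorem pomega_congr {F : Type u} [Field F] (φ : ZMod 2 ≃+* F) :
    Nonempty (Cfsg.POmega (ZMod 2) QQ ≃* Cfsg.POmega F (Cfsg.quadFormPlus 4 F)) := by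
  let e0 : GL (Fin 4 ⊕ Fin 4) (ZMod 2) ≃* GL (Fin 4 ⊕ Fin 4) F := Units.mapEquiv φ.mapMatrix.toMulEquiv
  have hv : ∀ (g : GL (Fin 4 ⊕ Fin 4) (ZMod 2)) (v : Fin 4 ⊕ Fin 4 → ZMod 2),
      (e0 g).1 *ᵥ (φ ∘ v) = φ ∘ (g.1 *ᵥ v) := fun g v => by
    funext i
    simp [e0, Matrix.mulVec, dotProduct, map_sum]
  have hq : ∀ v : Fin 4 ⊕ Fin 4 → ZMod 2, Cfsg.quadFormPlus 4 F (φ ∘ v) = φ (QQ v) := fun v => by
    simp [Cfsg.quadFormPlus, map_sum]
  have hO : ∀ g, e0 g ∈ Cfsg.isometryGroup F (Cfsg.quadFormPlus 4 F) ↔ g ∈ OGrp := fun g => by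
    rw [Cfsg.Lib.Chev.D4Orth.mem_isom, Cfsg.Lib.Chev.D4Orth.mem_isom]
    refine ⟨fun h v => φ.injective ?_, fun h v => ?_⟩
    · rw [← hq, ← hq, ← hv, h]
    · obtain ⟨w, rfl⟩ : ∃ w, v = φ ∘ w := ⟨φ.symm ∘ v, by funext i; simp⟩
      rw [hv, hq, hq]
      exact congrArg φ (h w)
  let eO : ↥OGrp ≃* ↥(Cfsg.isometryGroup F (Cfsg.quadFormPlus 4 F)) :=
    (e0.subgroupMap OGrp).trans (MulEquiv.subgroupCongr (by
      ext x
      obtain ⟨g, rfl⟩ := e0.surjective x
      rw [hO]
      simp))
  let eΩ : ↥OmGrp ≃* ↥(Cfsg.Omega F (Cfsg.quadFormPlus 4 F)) :=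
    (eO.subgroupMap OmGrp).trans (MulEquiv.subgroupCongr (by
      show (commutator _).map _ = commutator _
      rw [commutator_def, commutator_def, Subgroup.map_commutator,
        Subgroup.map_top_of_surjective _ eO.surjective]))
  refine ⟨QuotientGroup.congr _ _ eΩ ?_⟩
  ext x
  refine ⟨?_, fun hx => ⟨eΩ.symm x, Subgroup.mem_center_iff.2 fun y => eΩ.injective ?_, eΩ.apply_symm_apply x⟩⟩
  · rintro ⟨z, hz, rfl⟩
    refine Subgroup.mem_center_iff.2 fun y => ?_
    obtain ⟨w, rfl⟩ := eΩ.surjective y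
    simpa using congrArg eΩ (Subgroup.mem_center_iff.1 hz w)
  · simpa using Subgroup.mem_center_iff.1 hx (eΩ y)

theorem multiplier_of_card {F : Type u} [Field F] [Fintype F] (hF : Fintype.card F = 2) :
    Cfsg.HasSchurMultiplier (Cfsg.POmega F (Cfsg.quadFormPlus 4 F)) (Multiplicative (ZMod 2 × ZMod 2)) := by
  obtain ⟨e⟩ := pomega_congr (ZMod.ringEquivOfPrime F Nat.prime_two hF)
  exact Cfsg.Lib.SpSix.hasSchur_of_equiv e multiplier

end Cfsg.Lib.O8Two
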