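import Cfsg.Agent.Lib.O8Two.Omega
import Cfsg.Agent.Lib.SpSix.Main

/-!
# The stabiliser of a signed root is the double cover of `Sp6(2)`
-/

set_option autoImplicit false
set_option maxRecDepth 8000

namespace Cfsg.Lib.O8Two

open Cfsg.Lib.Concrete
open scoped commutatorElement

/-- A generator of the stabiliser. -/
def uGen (i : ℕ) : Gam := cWord (uWord i)

/-- The stabiliser. -/
def UGrp : Subgroup Gam := Subgroup.closure (Set.range fun i : Fin 2 => uGen i)

theorem uGen_mem (i : Fin 2) : uGen i ∈ UGrp := Subgroup.subset_closure ⟨i, rfl⟩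

theorem uGen_zero : ∀ i : Fin 2, oImg (uWord i) 0 = 0 := by decide +kernel

theorem u_two : ∀ i : Fin 2, ∀ x : Fin 240, tImg (uWord i) x = Cfsg.Lib.SpSix.pV i x := by decide +kernel

theorem fix_of_mem {g : Gam} (hg : g ∈ UGrp) : actA g 0 = 0 := by
  induction hg using Subgroup.closure_induction with
  | mem g hg =>
    obtain ⟨i, rfl⟩ := hg
    exact Fin.ext (by show (actA (cWord (uWord i)) 0 : ℕ) = _; rw [cWord_one]; exact uGen_zero i)
  | one => simp
  | mul a b _ _ ha hb => rw [map_mul, Equiv.Perm.mul_apply, hb, ha]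
  | inv a _ ha =>
    rw [map_inv]
    conv_lhs => rw [← ha]
    exact (actA a).symm_apply_apply 0

theorem column_inj : ∀ x : Fin 240,
    ((List.range 240).map fun a => (mulL (Fin.ofNat 240 a) 0 : ℕ)).idxOf ((mulL x 0 : Fin 240) : ℕ) = x := by
  decide +kernel

theorem actBU_injective : Function.Injective (actB.comp UGrp.subtype) := by
  refine (injective_iff_map_eq_one _).2 fun g hg => Subtype.ext ?_
  have hB : actB (g : Gam) = 1 := hg
  obtain ⟨h, hh⟩ := (good_mem (g : Gam).2).mulEq
  have hh' : ∀ x y, h (mulL x y) = mulL (actA (g : Gam) x) y := fun x y => by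
    rw [hh, ← actB_apply, hB]; rfl
  have hid : ∀ z, h z = z := fun z => by
    have e := hh' 0 (rowInv z)
    rwa [fix_of_mem g.2, (row_inv _).2] at e
  have hA : actA (g : Gam) = 1 := Equiv.ext fun x => by
    have e := hh' x 0
    rw [hid] at e
    refine Fin.ext ?_
    rw [← column_inj (actA (g : Gam) x), ← e, column_inj]
    rfl
  exact fix_all hA (by rw [hB]; rfl)

theorem tv_inj : ∀ v w : Fin 63, (∀ p : Fin 120, Cfsg.Lib.SpSix.tvP v p = Cfsg.Lib.SpSix.tvP w p) → v = w := by
  decide +kernel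

theorem ptAct_injective : Function.Injective Cfsg.Lib.SpSix.ptAct := by
  refine (injective_iff_map_eq_one _).2 fun g hg => ?_
  refine Cfsg.Lib.SpSix.fix_all (Equiv.ext fun v => (tv_inj _ _ fun p => ?_)) (by rw [hg]; rfl)
  have e := (Cfsg.Lib.SpSix.good_mem g.2).tvEq v (Cfsg.Lib.SpSix.liftPt p)
  rw [← Cfsg.Lib.SpSix.ptAct_apply, hg, ← Cfsg.Lib.SpSix.proj_apply] at e
  simp only [Equiv.Perm.one_apply, Cfsg.Lib.SpSix.base_lift] at e
  exact e.symm

theorem iso_Cov : Nonempty (UGrp ≃* Cfsg.Lib.SpSix.Cov) := by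
  have h : (actB.comp UGrp.subtype).range = Cfsg.Lib.SpSix.ptAct.range := by
    rw [UGrp, Cfsg.Lib.SpSix.range_closure, show Cfsg.Lib.SpSix.ptAct =
      (MonoidHom.fst _ _).comp Cfsg.Lib.SpSix.Cov.subtype from rfl, Cfsg.Lib.SpSix.range_closure]
    congr 2
    funext i
    refine Equiv.ext fun x => Fin.ext ?_
    show (actB (cWord (uWord i)) x : ℕ) = _
    rw [cWord_two, u_two]
    rfl
  exact ⟨((MonoidHom.ofInjective actBU_injective).trans (MulEquiv.subgroupCongr h)).trans
    (MonoidHom.ofInjective ptAct_injective).symm⟩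

theorem card_UGrp : Nat.card UGrp = 2903040 := by
  obtain ⟨e⟩ := iso_Cov
  rw [Nat.card_congr e.toEquiv, Cfsg.Lib.SpSix.card_Cov]

theorem perfect_UGrp : ⁅UGrp, UGrp⁆ = UGrp := by
  obtain ⟨e⟩ := iso_Cov
  have h2 : commutator UGrp = ⊤ := by
    rw [commutator_def, ← Subgroup.map_top_of_surjective e.symm.toMonoidHom e.symm.surjective,
      ← Subgroup.map_commutator, ← commutator_def,
      Schur.commutator_eq_top_of_stem Cfsg.Lib.SpSix.perfect_PSp _ Cfsg.Lib.SpSix.toPSp_stem,
      Subgroup.map_top_of_surjective _ e.symm.surjective]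
  have h3 := congrArg (Subgroup.map UGrp.subtype) h2
  rwa [commutator_def, Subgroup.map_commutator, ← MonoidHom.range_eq_map, Subgroup.range_subtype] at h3

/-- The image of a root under a word in the stabiliser. -/
def uImgA (W : List ℕ) (x : ℕ) : ℕ := W.foldr (fun i y => tget 8 (uTabOne (i % 2)) y) x

/-- The image in the second copy. -/
def uImgB (W : List ℕ) (x : ℕ) : ℕ := W.foldr (fun i y => Cfsg.Lib.SpSix.pV (i % 2) y) x

theorem uWord_one (W : List ℕ) (x : Fin 240) :
    (actA (wordProd (fun i => uGen (i % 2)) W) x : ℕ) = uImgA W x := by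
  induction W with
  | nil => simp [wordProd, uImgA]
  | cons i W ih =>
    rw [show wordProd (fun i => uGen (i % 2)) (i :: W) = uGen (i % 2) * wordProd (fun i => uGen (i % 2)) W by
        simp [wordProd], map_mul, Equiv.Perm.mul_apply, uGen, cWord_one,
      show uImgA (i :: W) x = tget 8 (uTabOne (i % 2)) (uImgA W x) from rfl, ← ih]
    exact u_one ⟨i % 2, Nat.mod_lt _ two_pos⟩ _

theorem uWord_two (W : List ℕ) (x : Fin 240) :
    (actB (wordProd (fun i => uGen (i % 2)) W) x : ℕ) = uImgB W x := by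
  induction W with
  | nil => simp [wordProd, uImgB]
  | cons i W ih =>
    rw [show wordProd (fun i => uGen (i % 2)) (i :: W) = uGen (i % 2) * wordProd (fun i => uGen (i % 2)) W by
        simp [wordProd], map_mul, Equiv.Perm.mul_apply, uGen, cWord_two,
      show uImgB (i :: W) x = Cfsg.Lib.SpSix.pV (i % 2) (uImgB W x) from rfl, ← ih]
    exact u_two ⟨i % 2, Nat.mod_lt _ two_pos⟩ _

theorem uWord_mem (W : List ℕ) : wordProd (fun i => uGen (i % 2)) W ∈ UGrp :=
  Subgroup.list_prod_mem _ fun g hg => by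
    obtain ⟨i, -, rfl⟩ := List.mem_map.1 hg
    exact uGen_mem ⟨i % 2, Nat.mod_lt _ two_pos⟩

end Cfsg.Lib.O8Two
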